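import Cfsg.Agent.Helper96.Sz8.CertE.Data
set_option autoImplicit false
set_option maxRecDepth 1000000
namespace Cfsg.Agent.Helper96.Sz8.CertE
open Cfsg.Agent.Helper28
def chunks6 : List Nat := [0xea9500134a0200000225500ea9100134202000003c5300ea7c00010a0200000005e00e9ed0013520200000355700e9c00001160200000025f00179600e9b400e7840003000275600e9b50005d60200000405600179200e9b400e78c0003000325400178e00e9b400e4740003000255500178a00e9b400e8dc0003000285200e93800135a02000003f5e00e91400016a0200000075f00e9100001120200000015e00e9000001e202000000e5e00e8f900e85802000002f5e00e8e800013a0200000075600e8e80002010200000075200e8e00002020200000105e00e8880002b10200000105400e86c00013e0200000055f00e841000be60200000285300e8300004aa0200000205f00e8250013460200000345200e8190004be0200000215f00e81900deb90200000215400e81900bb89020000021530004c700e81500134b0003004d25500e6b900e8150013430003004d05300e80400087a0200000355f00e80400bdcd0200000355500e8000001b202000000b5f00e7f90001820200000095f0000f900e7f500000a0003000005500e7ec00024a0200000135f00e7e100ca9402000001b5700e7e100020a02000001b5400e7c800dcac02000003d5f00e7c80004b202000003d5300e7c400040e02000001d5e00009900e7c10000060003000005428]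
theorem facts_ok6 : checkChunks tabs chunks6 15000 15040 = true := by decide +kernel
end Cfsg.Agent.Helper96.Sz8.CertE
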