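import Cfsg.Agent.Helper96.Sz8.CertE.Facts0
import Cfsg.Agent.Helper96.Sz8.CertE.Facts1
import Cfsg.Agent.Helper96.Sz8.CertE.Facts2
import Cfsg.Agent.Helper96.Sz8.CertE.Facts3
import Cfsg.Agent.Helper96.Sz8.CertE.Facts4
import Cfsg.Agent.Helper96.Sz8.CertE.Facts5
import Cfsg.Agent.Helper96.Sz8.CertE.Facts6
import Cfsg.Agent.Helper96.Sz8.CertE.Misc
import Cfsg.Agent.Helper96.Sz8.CertE.Perm0
import Cfsg.Agent.Helper96.Sz8.CertE.Perm1
import Cfsg.Agent.Helper96.Sz8.CertE.Perm2
import Cfsg.Agent.Helper96.Sz8.CertE.Perm3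
import Cfsg.Agent.Helper96.Sz8.CertE.Perm4
import Cfsg.Agent.Helper96.Sz8.CertE.Perm5
import Cfsg.Agent.Helper96.Sz8.CertE.Perm6
set_option autoImplicit false
namespace Cfsg.Agent.Helper96.Sz8.CertE
open Cfsg.Agent.Helper28
theorem perm_all : ∀ r, 5 ≤ r → r < 82 → relOk ptabs (tabs.word r) 0 ptabs.n = true := by
  intro r h1 h2
  by_cases c17 : r < 17
  · exact permRange_sound ptabs tabs.word letTr.get 7 127 perm_eq 5 12 perm_ok_5 r (by omega) (by omega)
  by_cases c29 : r < 29
  · exact permRange_sound ptabs tabs.word letTr.get 7 127 perm_eq 17 12 perm_ok_17 r (by omega) (by omega)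
  by_cases c41 : r < 41
  · exact permRange_sound ptabs tabs.word letTr.get 7 127 perm_eq 29 12 perm_ok_29 r (by omega) (by omega)
  by_cases c53 : r < 53
  · exact permRange_sound ptabs tabs.word letTr.get 7 127 perm_eq 41 12 perm_ok_41 r (by omega) (by omega)
  by_cases c65 : r < 65
  · exact permRange_sound ptabs tabs.word letTr.get 7 127 perm_eq 53 12 perm_ok_53 r (by omega) (by omega)
  by_cases c77 : r < 77
  · exact permRange_sound ptabs tabs.word letTr.get 7 127 perm_eq 65 12 perm_ok_65 r (by omega) (by omega)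
  by_cases c82 : r < 82
  · exact permRange_sound ptabs tabs.word letTr.get 7 127 perm_eq 77 5 perm_ok_77 r (by omega) (by omega)
  omega
theorem subfix_all : ∀ r, r < 5 → relOk ptabs (tabs.word r) 0 1 = true := allLt_sound _ _ subfix_ok
end Cfsg.Agent.Helper96.Sz8.CertE
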